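import Mathlib
import Cfsg.Prelude.Def_Classical
import Cfsg.Agent.Lib.Helper11.S5956U.Defs
import Cfsg.Agent.Lib.helper6.HermFrames

set_option autoImplicit false

/-!
# Project S5954 (designer helper19): PSU_n(q) on the nondegenerate m-spaces, elements of prime order.  Definitions.

Hermitian forms are Mathlib sesquilinear maps `B : V →ₛₗ[σ] V →ₗ[F] F` (semilinear in the FIRST argument, as in S0755 and
helper6's `hB n σ u v = hermForm n F q v u`).  Reused: `SInv` (= helper24 `ElInv`), `fixS`, `cycS` of helper13's S5955;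
`rdk`, `tyf`, `cycU` of helper11's S5956U; `dk` of helper14's JTa.
-/

namespace Cfsg.Agent.Lib.Helper19.S5954

open Polynomial Module Cfsg.Agent.Lib.Helper13.S5955

variable {F : Type*} [Field F] {V : Type*} [AddCommGroup V] [Module F V]

/-- `B` is nondegenerate on `N` -/
def HND {σ : F →+* F} (B : V →ₛₗ[σ] V →ₗ[F] F) (N : Submodule F V) : Prop :=
  ∀ u ∈ N, (∀ v ∈ N, B u v = 0) → u = 0

/-- `U` and `W` are orthogonal for `B` -/
def HOrth {σ : F →+* F} (B : V →ₛₗ[σ] V →ₗ[F] F) (U W : Submodule F V) : Prop :=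
  ∀ u ∈ U, ∀ w ∈ W, B u w = 0

/-- `W` is totally isotropic for `B` -/
def HTI {σ : F →+* F} (B : V →ₛₗ[σ] V →ₗ[F] F) (W : Submodule F V) : Prop :=
  ∀ u ∈ W, ∀ v ∈ W, B u v = 0

/-- the abstract hermitian context: `σ` an involution `≠ 1` of `F`, `B` conjugate-symmetric and nondegenerate,
`x` an isometry with `x ^ r = 1` -/
structure HCtx (r : ℕ) (σ : F →+* F) (B : V →ₛₗ[σ] V →ₗ[F] F) (x : Module.End F V) : Prop where
  inv : ∀ a, σ (σ a) = a
  ne : ∃ a, σ a ≠ a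
  symm : ∀ u v, σ (B u v) = B v u
  nd : ∀ u, (∀ v, B u v = 0) → u = 0
  pres : ∀ u v, B (x u) (x v) = B u v
  pow : x ^ r = 1

/-- `m` is the dimension of some invariant nondegenerate subspace -/
def HNDd {σ : F →+* F} (B : V →ₛₗ[σ] V →ₗ[F] F) (x : Module.End F V) (m : ℕ) : Prop :=
  ∃ W : Submodule F V, SInv x W ∧ HND B W ∧ Module.finrank F W = m

/-- the standard hermitian form `stdH n σ u v = Σ v_i σ(u_i)` (`= hermForm n F q v u` when `σ = (· ^ q)`) -/
noncomputable abbrev stdH (n : ℕ) (σ : F →+* F) : (Fin n → F) →ₛₗ[σ] (Fin n → F) →ₗ[F] F :=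
  Cfsg.Agent.Lib.helper6.HF.hB n σ

/-- the nondegeneracy clause of the frozen statement -/
def FNDh (n q : ℕ) (W : Submodule F (Fin n → F)) : Prop :=
  ∀ u ∈ W, u ≠ 0 → ∃ v ∈ W, Cfsg.hermForm n F q u v ≠ 0

/-- the set `Ω` of the frozen statement -/
abbrev NDm (n m q : ℕ) (F : Type*) [Field F] : Type _ :=
  {W : Submodule F (Fin n → F) // Module.finrank F ↥W = m ∧
    (∀ u ∈ W, u ≠ 0 → ∃ v ∈ W, Cfsg.hermForm n F q u v ≠ 0)}

/-- the partition clause of (i) -/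
def PCh (p n m : ℕ) : Prop :=
  ∀ μ : Multiset ℕ, (∀ a ∈ μ, 0 < a ∧ a ≤ p) → μ.sum = n → ∃ ν : Multiset ℕ, ν ≤ μ ∧ ν.sum = m

/-- the conclusion "x fixes a nondegenerate m-space" of the frozen statement -/
def Fixes (n m q : ℕ) (X : Matrix (Fin n) (Fin n) F) : Prop :=
  ∃ W : Submodule F (Fin n → F), Module.finrank F ↥W = m ∧
    (∀ u ∈ W, u ≠ 0 → ∃ v ∈ W, Cfsg.hermForm n F q u v ≠ 0) ∧ W.map (Matrix.toLin' X) ≤ W

end Cfsg.Agent.Lib.Helper19.S5954
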