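import Mathlib
import Cfsg.Agent.Lib.Helper19.S5954.Defs
import Cfsg.Agent.Lib.helper3.S5953.Defs

set_option autoImplicit false

/-!
# Project S5954 (designer helper19): the definition `AllFix` used by the TOP rows (`S5954/SkelTop.lean.txt`).
-/

namespace Cfsg.Agent.Lib.Helper19.S5954

/-- "every element of order `r` of `PSU_n(q)` fixes a nondegenerate `m`-space" (the left side of the frozen statement) -/
def AllFix (F : Type*) [Field F] (n m q r : ℕ) : Prop :=
  ∀ x : Matrix.SpecialLinearGroup (Fin n) F, x ∈ Cfsg.SU n F q →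
    (∃ z : F, ((x ^ r : Matrix.SpecialLinearGroup (Fin n) F) : Matrix (Fin n) (Fin n) F) = z • (1 : Matrix (Fin n) (Fin n) F)) →
    (∀ z : F, (x : Matrix (Fin n) (Fin n) F) ≠ z • (1 : Matrix (Fin n) (Fin n) F)) →
    Fixes n m q (x : Matrix (Fin n) (Fin n) F)

end Cfsg.Agent.Lib.Helper19.S5954
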