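import Mathlib
import Cfsg.Agent.Lib.Helper19.S5954.Defs
import Cfsg.Agent.Lib.Helper10.S5954UPEEL
import Cfsg.Agent.Lib.Helper20.S5954USUPND
import Cfsg.Agent.Lib.Helper24.ElB

set_option autoImplicit false
set_option linter.unusedVariables false

/-!
# Project S5954, part G: generic tools for the semisimple parts T / NS / O (rows GANISO0, GLADDER, GSCAL)
-/

namespace Cfsg.Agent.Lib.Helper19.S5954

open Module Polynomial Cfsg.Agent.Lib.Helper13.S5955

variable {F : Type*} [Field F] {V : Type*} [AddCommGroup V] [Module F V]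

/-- GANISO0: a nonzero subspace on which a hermitian form (`σ ≠ 1`) is nondegenerate has a non-isotropic vector -/
theorem h_aniso0 {σ : F →+* F} {B : V →ₛₗ[σ] V →ₗ[F] F} (hne : ∃ a, σ a ≠ a)
    (hsymm : ∀ u v, σ (B u v) = B v u) (N : Submodule F V) (hNnd : HND B N) (hN0 : N ≠ ⊥) :
    ∃ v ∈ N, B v v ≠ 0 := by
  by_contra hcon
  have hiso : ∀ v ∈ N, B v v = 0 := by
    intro v hv
    by_contra h'
    exact hcon ⟨v, hv, h'⟩
  obtain ⟨v₀, hv₀, hv₀0⟩ := Submodule.exists_mem_ne_zero_of_ne_bot hN0
  obtain ⟨u, hu, hut⟩ : ∃ u ∈ N, B v₀ u ≠ 0 := by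
    by_contra h'
    apply hv₀0
    apply hNnd _ hv₀
    intro u hu
    by_contra h''
    exact h' ⟨u, hu, h''⟩
  have hskew : ∀ a ∈ N, ∀ b ∈ N, B b a = - B a b := by
    intro a ha b hb
    have h1 := hiso (a + b) (N.add_mem ha hb)
    simp only [map_add, LinearMap.add_apply] at h1
    rw [hiso a ha, hiso b hb] at h1
    linear_combination h1
  have hkey : ∀ c : F, c * B v₀ u = σ c * B v₀ u := by
    intro c
    have hcu : c • u ∈ N := N.smul_mem c hu
    have h1 := hskew (c • u) hcu v₀ hv₀
    have h3 := hskew u hu v₀ hv₀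
    simp only [map_smul, LinearMap.map_smulₛₗ, LinearMap.smul_apply, smul_eq_mul] at h1
    linear_combination h1 - σ c * h3
  obtain ⟨c, hc⟩ := hne
  exact hc (mul_right_cancel₀ hut (hkey c)).symm

/-- GLADDER: if every nonzero invariant nondegenerate subspace of `Y` contains an invariant nondegenerate subspace of dimension `c`,
then an invariant nondegenerate `N ≤ Y` contains invariant nondegenerate subspaces of every dimension `c * t ≤ dim N` -/
theorem h_ladder [FiniteDimensional F V] {R : ℕ} (hR : 0 < R) {σ : F →+* F} {B : V →ₛₗ[σ] V →ₗ[F] F}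
    {x : Module.End F V} (h : HCtx R σ B x) (c : ℕ) (hc : 0 < c) (Y : Submodule F V)
    (hmin : ∀ N : Submodule F V, N ≤ Y → SInv x N → HND B N → N ≠ ⊥ →
      ∃ U : Submodule F V, U ≤ N ∧ SInv x U ∧ HND B U ∧ finrank F U = c)
    (N : Submodule F V) (hNY : N ≤ Y) (hN : SInv x N) (hNnd : HND B N) (t : ℕ)
    (ht : c * t ≤ finrank F N) :
    ∃ W : Submodule F V, W ≤ N ∧ SInv x W ∧ HND B W ∧ finrank F W = c * t := by
  induction t generalizing N with
  | zero =>
    refine ⟨⊥, bot_le, ?_, ?_, ?_⟩
    · intro v hv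
      rw [(Submodule.mem_bot F).mp hv, map_zero]
      exact Submodule.zero_mem _
    · intro u hu _
      exact (Submodule.mem_bot F).mp hu
    · rw [finrank_bot, mul_zero]
  | succ t ih =>
    have hN0 : N ≠ ⊥ := by
      rintro rfl
      rw [finrank_bot] at ht
      have : 0 < c * (t + 1) := Nat.mul_pos hc (Nat.succ_pos t)
      omega
    obtain ⟨U, hUN, hU, hUnd, hUc⟩ := hmin N hNY hN hNnd hN0
    obtain ⟨N', hN'N, hN', hN'nd, horth, -, hdim⟩ := h_peel hR h N U hN hNnd hUN hU hUnd
    have ht' : c * t ≤ finrank F N' := by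
      rw [hUc] at hdim
      have : c * (t + 1) = c * t + c := by ring
      omega
    obtain ⟨W', hW'N', hW', hW'nd, hW'd⟩ := ih N' (hN'N.trans hNY) hN' hN'nd ht'
    have horth' : HOrth B U W' := fun u hu w hw => horth u hu w (hW'N' hw)
    obtain ⟨h1, h2, h3⟩ := h_sup_nd h U W' hU hW' hUnd hW'nd horth'
    refine ⟨U ⊔ W', sup_le hUN (hW'N'.trans hN'N), h1, h2, ?_⟩
    rw [h3, hUc, hW'd]
    ring

/-- GSCAL: an invariant nondegenerate subspace on which `x` acts as a scalar contains invariant nondegenerate subspaces of every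
dimension `≤ dim` -/
theorem h_scal_all [FiniteDimensional F V] {R : ℕ} (hR : 0 < R) {σ : F →+* F} {B : V →ₛₗ[σ] V →ₗ[F] F}
    {x : Module.End F V} (h : HCtx R σ B x) (Y : Submodule F V) (l : F) (hsc : ∀ v ∈ Y, x v = l • v)
    (N : Submodule F V) (hNY : N ≤ Y) (hNnd : HND B N) (k : ℕ) (hk : k ≤ finrank F N) :
    ∃ W : Submodule F V, W ≤ N ∧ SInv x W ∧ HND B W ∧ finrank F W = k := by
  have hinv : ∀ W : Submodule F V, W ≤ Y → SInv x W := by
    intro W hW v hv
    rw [hsc v (hW hv)]
    exact W.smul_mem l hv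
  have hmin : ∀ N : Submodule F V, N ≤ Y → SInv x N → HND B N → N ≠ ⊥ →
      ∃ U : Submodule F V, U ≤ N ∧ SInv x U ∧ HND B U ∧ finrank F U = 1 := by
    intro N hNY _ hNnd hN0
    obtain ⟨v, hv, hvv⟩ := h_aniso0 h.ne h.symm N hNnd hN0
    have hv0 : v ≠ 0 := by
      rintro rfl
      apply hvv
      rw [map_zero]
    have hle : Submodule.span F {v} ≤ N := by
      rw [Submodule.span_le, Set.singleton_subset_iff]
      exact hv
    refine ⟨Submodule.span F {v}, hle, hinv _ (hle.trans hNY), ?_, finrank_span_singleton hv0⟩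
    intro u hu hall
    obtain ⟨a, rfl⟩ := Submodule.mem_span_singleton.mp hu
    have h1 := hall v (Submodule.mem_span_singleton_self v)
    rw [LinearMap.map_smulₛₗ₂, smul_eq_mul] at h1
    rcases mul_eq_zero.mp h1 with h2 | h2
    · have h3 := congrArg σ h2
      rw [h.inv, map_zero] at h3
      rw [h3, zero_smul]
    · exact absurd h2 hvv
  have := h_ladder hR h 1 Nat.one_pos Y hmin N hNY (hinv N hNY) hNnd k (by omega)
  simpa using this

/-- an eigenvector of an isometry for an eigenvalue of norm one: the adjoint of a polynomial in `x` -/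
theorem s5954g_adj_eigen {R : ℕ} {σ : F →+* F} {B : V →ₛₗ[σ] V →ₗ[F] F} {x : Module.End F V}
    (h : HCtx R σ B x) (l : F) (hl : l * σ l = 1) (u : V) (hu : x u = l • u) (p : F[X]) (v : V) :
    B u (aeval x p v) = p.eval l * B u v := by
  have h1 : ∀ v, B u (x v) = l * B u v := by
    intro v
    have h2 := h.pres u v
    rw [hu, LinearMap.map_smulₛₗ₂, smul_eq_mul] at h2
    calc B u (x v) = (l * σ l) * B u (x v) := by rw [hl, one_mul]
      _ = l * (σ l * B u (x v)) := by ring
      _ = l * B u v := by rw [h2]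
  have h2 : ∀ n : ℕ, ∀ v, B u ((x ^ n) v) = l ^ n * B u v := by
    intro n
    induction n with
    | zero => intro v; simp
    | succ n ih =>
      intro v
      rw [pow_succ', Module.End.mul_apply, h1, ih, pow_succ']
      ring
  induction p using Polynomial.induction_on' with
  | add p q hp hq => rw [map_add, LinearMap.add_apply, map_add, hp, hq, eval_add]; ring
  | monomial n a =>
    rw [aeval_monomial, eval_monomial, Module.End.mul_apply, Module.algebraMap_end_apply, map_smul, h2,
      smul_eq_mul]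
    ring

/-- an eigenvector is an eigenvector of every polynomial in `x` -/
theorem s5954g_aeval_eigen (x : Module.End F V) (l : F) (w : V) (hw : x w = l • w) (p : F[X]) :
    aeval x p w = p.eval l • w := by
  have h2 : ∀ n : ℕ, (x ^ n) w = l ^ n • w := by
    intro n
    induction n with
    | zero => simp
    | succ n ih => rw [pow_succ', Module.End.mul_apply, ih, map_smul, hw, smul_smul, pow_succ]
  induction p using Polynomial.induction_on' with
  | add p q hp hq => rw [map_add, LinearMap.add_apply, hp, hq, eval_add, add_smul]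
  | monomial n a =>
    rw [aeval_monomial, eval_monomial, Module.End.mul_apply, Module.algebraMap_end_apply, h2, smul_smul]

/-- GEIG: the eigenspace `N_l` of an invariant nondegenerate `N` on which `(x - l) g(x) = 0`, `g(l) ≠ 0`, `l σ(l) = 1`:
either it contains a non-isotropic eigenvector, or `g(x) = 0` on `N` -/
theorem h_eig_split {R : ℕ} {σ : F →+* F} {B : V →ₛₗ[σ] V →ₗ[F] F} {x : Module.End F V}
    (h : HCtx R σ B x) (l : F) (hl : l * σ l = 1) (g : F[X]) (hg : g.eval l ≠ 0)
    (N : Submodule F V) (hN : SInv x N) (hNnd : HND B N)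
    (hP : ∀ v ∈ N, aeval x ((X - C l) * g) v = 0) :
    (∃ v ∈ N, x v = l • v ∧ B v v ≠ 0) ∨ ∀ v ∈ N, aeval x g v = 0 := by
  -- the eigenvectors in `N`
  have heig : ∀ v ∈ N, x (aeval x g v) = l • aeval x g v := by
    intro v hv
    have h1 := hP v hv
    rw [map_mul, Module.End.mul_apply, map_sub, aeval_X, aeval_C, LinearMap.sub_apply,
      Module.algebraMap_end_apply, sub_eq_zero] at h1
    exact h1
  by_cases hex : ∃ v ∈ N, x v = l • v ∧ B v v ≠ 0
  · exact Or.inl hex
  · right
    have hiso : ∀ v ∈ N, x v = l • v → B v v = 0 := by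
      intro v hv hxv
      by_contra h'
      exact hex ⟨v, hv, hxv, h'⟩
    -- the eigenspace is totally isotropic (polarisation as in `h_aniso0`)
    have hti : ∀ a ∈ N, x a = l • a → ∀ b ∈ N, x b = l • b → B a b = 0 := by
      intro a ha hxa b hb hxb
      have hskew : ∀ a ∈ N, x a = l • a → ∀ b ∈ N, x b = l • b → B b a = - B a b := by
        intro a ha hxa b hb hxb
        have h1 := hiso (a + b) (N.add_mem ha hb) (by rw [map_add, hxa, hxb, smul_add])
        simp only [map_add, LinearMap.add_apply] at h1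
        rw [hiso a ha hxa, hiso b hb hxb] at h1
        linear_combination h1
      by_contra hab
      have hkey : ∀ c : F, c * B a b = σ c * B a b := by
        intro c
        have h1 := hskew (c • b) (N.smul_mem c hb) (by rw [map_smul, hxb, smul_comm]) a ha hxa
        have h3 := hskew b hb hxb a ha hxa
        simp only [map_smul, LinearMap.map_smulₛₗ, LinearMap.smul_apply, smul_eq_mul] at h1
        linear_combination h1 - σ c * h3
      obtain ⟨c, hc⟩ := h.ne
      exact hc (mul_right_cancel₀ hab (hkey c)).symm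
    intro v hv
    -- `w = g(x) v` is an eigenvector in `N`, orthogonal to all of `N`
    set w := aeval x g v with hw
    have hwN : w ∈ N := Cfsg.Agent.Lib.Helper24.el_aeval_mem hN g hv
    apply hNnd w hwN
    intro b hb
    -- `b = e b + (b - e b)`, `e b = g(l)⁻¹ g(x) b`
    have h1 : B w (aeval x g b) = g.eval l * B w b :=
      s5954g_adj_eigen h l hl w (heig v hv) g b
    have h2 : B w (aeval x g b) = 0 :=
      hti w hwN (heig v hv) _ (Cfsg.Agent.Lib.Helper24.el_aeval_mem hN g hb) (heig b hb)
    rw [h2] at h1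
    rcases mul_eq_zero.mp h1.symm with h3 | h3
    · exact absurd h3 hg
    · exact h3

/-- GDIAG: if `∏ l ∈ S, (x - l) = 0` on the nonzero invariant nondegenerate `N`, all `l ∈ S` of norm one, then `N` contains an
invariant nondegenerate line -/
theorem h_diag_line {R : ℕ} {σ : F →+* F} {B : V →ₛₗ[σ] V →ₗ[F] F} {x : Module.End F V}
    (h : HCtx R σ B x) (S : Finset F) (hS : ∀ l ∈ S, l * σ l = 1)
    (N : Submodule F V) (hN : SInv x N) (hNnd : HND B N) (hN0 : N ≠ ⊥)
    (hP : ∀ v ∈ N, aeval x (∏ l ∈ S, (X - C l)) v = 0) :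
    ∃ U : Submodule F V, U ≤ N ∧ SInv x U ∧ HND B U ∧ finrank F U = 1 := by
  classical
  induction S using Finset.induction_on with
  | empty =>
    exfalso
    apply hN0
    rw [eq_bot_iff]
    intro v hv
    have := hP v hv
    rw [Finset.prod_empty, map_one, Module.End.one_apply] at this
    rw [this]
    exact Submodule.zero_mem _
  | insert l S hlS ih =>
    rw [Finset.prod_insert hlS] at hP
    have hg : (∏ l' ∈ S, (X - C l')).eval l ≠ 0 := by
      rw [eval_prod, Finset.prod_ne_zero_iff]
      intro a ha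
      rw [eval_sub, eval_X, eval_C, sub_ne_zero]
      rintro rfl
      exact hlS ha
    rcases h_eig_split h l (hS l (Finset.mem_insert_self l S)) _ hg N hN hNnd hP with
      ⟨v, hv, hxv, hvv⟩ | hzero
    · have hv0 : v ≠ 0 := by
        rintro rfl
        apply hvv
        rw [map_zero]
      have hle : Submodule.span F {v} ≤ N := by
        rw [Submodule.span_le, Set.singleton_subset_iff]
        exact hv
      refine ⟨Submodule.span F {v}, hle, ?_, ?_, finrank_span_singleton hv0⟩
      · intro u hu
        obtain ⟨a, rfl⟩ := Submodule.mem_span_singleton.mp hu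
        rw [map_smul, hxv, smul_comm]
        exact Submodule.smul_mem _ _ (Submodule.smul_mem _ _ (Submodule.mem_span_singleton_self v))
      · intro u hu hall
        obtain ⟨a, rfl⟩ := Submodule.mem_span_singleton.mp hu
        have h1 := hall v (Submodule.mem_span_singleton_self v)
        rw [LinearMap.map_smulₛₗ₂, smul_eq_mul] at h1
        rcases mul_eq_zero.mp h1 with h2 | h2
        · have h3 := congrArg σ h2
          rw [h.inv, map_zero] at h3
          rw [h3, zero_smul]
        · exact absurd h2 hvv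
    · exact ih (fun l' hl' => hS l' (Finset.mem_insert_of_mem hl')) hzero

/-- GDIAGALL: a diagonalisable isometry with eigenvalues of norm one has invariant nondegenerate subspaces of every dimension -/
theorem h_diag_all [FiniteDimensional F V] {R : ℕ} (hR : 0 < R) {σ : F →+* F} {B : V →ₛₗ[σ] V →ₗ[F] F}
    {x : Module.End F V} (h : HCtx R σ B x) (S : Finset F) (hS : ∀ l ∈ S, l * σ l = 1)
    (hP : aeval x (∏ l ∈ S, (X - C l)) = 0) (k : ℕ) (hk : k ≤ finrank F V) : HNDd B x k := by
  have hmin : ∀ N : Submodule F V, N ≤ ⊤ → SInv x N → HND B N → N ≠ ⊥ →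
      ∃ U : Submodule F V, U ≤ N ∧ SInv x U ∧ HND B U ∧ finrank F U = 1 := by
    intro N _ hN hNnd hN0
    exact h_diag_line h S hS N hN hNnd hN0 (fun v _ => by rw [hP, LinearMap.zero_apply])
  have htop : HND B (⊤ : Submodule F V) := fun u _ hu => h.nd u (fun v => hu v Submodule.mem_top)
  obtain ⟨W, -, hW, hWnd, hWk⟩ := h_ladder hR h 1 Nat.one_pos ⊤ hmin ⊤ le_rfl
    (fun v _ => Submodule.mem_top) htop k (by rw [finrank_top]; omega)
  exact ⟨W, hW, hWnd, by rw [hWk, one_mul]⟩

end Cfsg.Agent.Lib.Helper19.S5954
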