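import Mathlib
import Cfsg.Agent.Lib.Helper19.S5954.DefsTop
import Cfsg.Agent.Lib.Lead.Unitary
import Cfsg.Agent.Lib.helper6.HermFrames
import Cfsg.Agent.Lib.Helper10.S5954USTD

set_option autoImplicit false

/-!
# Project S5954, part X: the matrix bridge (rows XFROB XSTD XFND XNORM XROOT XCTX XINV XFIX XREAL XDET XDET1 XUNIP)
-/

namespace Cfsg.Agent.Lib.Helper19.S5954

open Module Matrix Cfsg.Agent.Lib.Helper13.S5955

section
variable {F : Type*} [Field F] [Fintype F] {q : ℕ}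

/-- XFROB: the Frobenius involution -/
theorem x_frob (hq : Fintype.card F = q ^ 2) :
    ∃ σ : F →+* F, (∀ a, σ a = a ^ q) ∧ (∀ a, σ (σ a) = a) ∧ ∃ a, σ a ≠ a := by
  obtain ⟨σ, hσ⟩ := Cfsg.Agent.Lib.Lead.exists_frob hq
  refine ⟨σ, hσ, Cfsg.Agent.Lib.Lead.frob_frob hq σ hσ, ?_⟩
  by_contra hcon
  push Not at hcon
  exact Cfsg.Agent.Lib.helper6.HF.frob_ne_id hq σ hσ (RingHom.ext hcon)

end

section
variable {F : Type*} [Field F] {q : ℕ}

/-- XSTD: the standard sesquilinear map is the frozen form with the arguments swapped -/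
theorem x_std (σ : F →+* F) (hσ : ∀ a, σ a = a ^ q) (n : ℕ) (u v : Fin n → F) :
    stdH n σ u v = Cfsg.hermForm n F q v u :=
  Cfsg.Agent.Lib.helper6.HF.hB_apply σ hσ u v

/-- XFND: the frozen nondegeneracy clause is `HND` for the standard form -/
theorem x_fnd (σ : F →+* F) (hσ : ∀ a, σ a = a ^ q) (hσσ : ∀ a, σ (σ a) = a) (n : ℕ)
    (W : Submodule F (Fin n → F)) : FNDh n q W ↔ HND (stdH n σ) W := by
  have hsw : ∀ u v : Fin n → F, stdH n σ u v = σ (Cfsg.hermForm n F q u v) := by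
    intro u v
    rw [x_std σ hσ]
    exact Cfsg.Agent.Lib.Lead.herm_symm σ hσ hσσ v u
  have hinj : ∀ a : F, σ a = 0 → a = 0 := by
    intro a ha
    have := congrArg σ ha
    rwa [hσσ, map_zero] at this
  constructor
  · intro h u hu hall
    by_contra hu0
    obtain ⟨v, hv, hne⟩ := h u hu hu0
    apply hne
    apply hinj
    rw [← hsw]
    exact hall v hv
  · intro h u hu hu0
    by_contra hcon
    push Not at hcon
    apply hu0
    apply h u hu
    intro v hv
    rw [hsw, hcon v hv, map_zero]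

end

section
variable {F : Type*} [Field F] {q : ℕ}

/-- XNORM: the scalar `z` of `x ^ r = z • 1` has norm one -/
theorem x_norm (n : ℕ) (hn : 1 ≤ n) (x : Matrix.SpecialLinearGroup (Fin n) F)
    (hx : x ∈ Cfsg.SU n F q) (r : ℕ) (z : F)
    (hz : ((x ^ r : Matrix.SpecialLinearGroup (Fin n) F) : Matrix (Fin n) (Fin n) F) =
      z • (1 : Matrix (Fin n) (Fin n) F)) : z ^ (q + 1) = 1 := by
  have hxr : x ^ r ∈ Cfsg.SU n F q := Subgroup.pow_mem _ hx r
  have h := hxr (Pi.single (⟨0, hn⟩ : Fin n) 1) (Pi.single (⟨0, hn⟩ : Fin n) 1)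
  have h1 : (Cfsg.slToMat n F (x ^ r)) = z • (1 : Matrix (Fin n) (Fin n) F) := hz
  rw [h1, Matrix.smul_mulVec, Matrix.one_mulVec] at h
  have h2 : ∀ c : F, Cfsg.hermForm n F q (c • (Pi.single (⟨0, hn⟩ : Fin n) (1 : F)))
      (c • (Pi.single (⟨0, hn⟩ : Fin n) (1 : F))) = c ^ (q + 1) := by
    intro c
    classical
    simp only [Cfsg.hermForm, Pi.smul_apply, smul_eq_mul]
    rw [Finset.sum_eq_single (⟨0, hn⟩ : Fin n)]
    · rw [Pi.single_eq_same, mul_one, pow_succ']
    · intro i _ hi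
      rw [Pi.single_eq_of_ne hi, mul_zero, zero_mul]
    · intro h0
      exact absurd (Finset.mem_univ _) h0
  have h3 := h2 1
  rw [one_smul, one_pow] at h3
  rw [h2, h3] at h
  exact h

/-- XROOT: for `r` prime to `q + 1` every element of norm one is an `r`-th power of an element of norm one -/
theorem x_root (r : ℕ) (hco : Nat.Coprime r (q + 1)) (z : F) (hz : z ^ (q + 1) = 1) :
    ∃ w : F, w ^ (q + 1) = 1 ∧ w ^ r = z := by
  rcases Nat.eq_zero_or_pos q with hq0 | hq0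
  · subst hq0
    refine ⟨1, one_pow _, ?_⟩
    rw [one_pow]
    simpa using hz.symm
  · obtain ⟨s, -, hs⟩ := Nat.exists_mul_mod_eq_one_of_coprime hco (by omega)
    refine ⟨z ^ s, ?_, ?_⟩
    · rw [← pow_mul, mul_comm, pow_mul, hz, one_pow]
    · have h1 := Nat.div_add_mod (r * s) (q + 1)
      rw [hs] at h1
      rw [← pow_mul, mul_comm s r, ← h1, pow_add, pow_mul, hz, one_pow, one_mul, pow_one]

/-- XCTX: an element of `SU` with `x ^ r = w ^ r • 1`, `w` of norm one, gives the abstract context for `w⁻¹ • x` -/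
theorem x_ctx (σ : F →+* F) (hσ : ∀ a, σ a = a ^ q) (hσσ : ∀ a, σ (σ a) = a) (hne : ∃ a, σ a ≠ a)
    (n : ℕ) (x : Matrix.SpecialLinearGroup (Fin n) F) (hx : x ∈ Cfsg.SU n F q) (r : ℕ) (w : F)
    (hw : w ^ (q + 1) = 1)
    (hz : ((x ^ r : Matrix.SpecialLinearGroup (Fin n) F) : Matrix (Fin n) (Fin n) F) =
      (w ^ r) • (1 : Matrix (Fin n) (Fin n) F)) :
    HCtx r σ (stdH n σ) (w⁻¹ • Matrix.toLin' (x : Matrix (Fin n) (Fin n) F)) := by
  have hw0 : w ≠ 0 := by
    rintro rfl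
    rw [zero_pow (by omega)] at hw
    exact zero_ne_one hw
  obtain ⟨hsy, hnd⟩ := std_facts n σ hσσ
  refine ⟨hσσ, hne, hsy, hnd, ?_, ?_⟩
  · intro u v
    have h := hx v u
    have h1 : Cfsg.hermForm n F q ((x : Matrix (Fin n) (Fin n) F) *ᵥ v)
        ((x : Matrix (Fin n) (Fin n) F) *ᵥ u) = Cfsg.hermForm n F q v u := h
    rw [LinearMap.smul_apply, LinearMap.smul_apply, LinearMap.map_smulₛₗ₂, map_smul,
      x_std σ hσ, x_std σ hσ, Matrix.toLin'_apply, Matrix.toLin'_apply, h1, smul_eq_mul, smul_eq_mul,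
      ← mul_assoc, hσ, ← pow_succ, inv_pow, hw, inv_one, one_mul]
  · rw [smul_pow, ← Matrix.toLin'_pow]
    have h1 : ((x : Matrix (Fin n) (Fin n) F)) ^ r =
        ((x ^ r : Matrix.SpecialLinearGroup (Fin n) F) : Matrix (Fin n) (Fin n) F) := by
      rw [Matrix.SpecialLinearGroup.coe_pow]
    rw [h1, hz, map_smul, Matrix.toLin'_one, smul_smul, inv_pow, inv_mul_cancel₀ (pow_ne_zero _ hw0),
      one_smul]
    rfl

/-- XINV: invariance under `w⁻¹ • x` is invariance under `x` -/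
theorem x_inv (n : ℕ) (X : Matrix (Fin n) (Fin n) F) (w : F) (hw : w ≠ 0)
    (W : Submodule F (Fin n → F)) :
    SInv (w⁻¹ • Matrix.toLin' X) W ↔ W.map (Matrix.toLin' X) ≤ W := by
  rw [Submodule.map_le_iff_le_comap]
  constructor
  · intro h v hv
    have h1 := h v hv
    rw [LinearMap.smul_apply] at h1
    exact (W.smul_mem_iff (inv_ne_zero hw)).mp h1
  · intro h v hv
    rw [LinearMap.smul_apply]
    exact W.smul_mem _ (h hv)

/-- XFIX: the frozen conclusion is `HNDd` for the standard form and `w⁻¹ • x` -/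
theorem x_fixes (σ : F →+* F) (hσ : ∀ a, σ a = a ^ q) (hσσ : ∀ a, σ (σ a) = a) (n m : ℕ)
    (X : Matrix (Fin n) (Fin n) F) (w : F) (hw : w ≠ 0) :
    Fixes n m q X ↔ HNDd (stdH n σ) (w⁻¹ • Matrix.toLin' X) m := by
  constructor
  · rintro ⟨W, hWm, hWnd, hWx⟩
    exact ⟨W, (x_inv n X w hw W).mpr hWx, (x_fnd σ hσ hσσ n W).mp hWnd, hWm⟩
  · rintro ⟨W, hWx, hWnd, hWm⟩
    exact ⟨W, hWm, (x_fnd σ hσ hσσ n W).mpr hWnd, (x_inv n X w hw W).mp hWx⟩

/-- XREAL: an isometry of the standard form of determinant one is an element of `SU` -/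
theorem x_real (σ : F →+* F) (hσ : ∀ a, σ a = a ^ q) (n : ℕ) (y : Module.End F (Fin n → F))
    (hy : ∀ u v, stdH n σ (y u) (y v) = stdH n σ u v) (hdet : LinearMap.det y = 1) :
    ∃ x : Matrix.SpecialLinearGroup (Fin n) F, x ∈ Cfsg.SU n F q ∧
      Matrix.toLin' (x : Matrix (Fin n) (Fin n) F) = y := by
  refine ⟨⟨LinearMap.toMatrix' y, by rw [LinearMap.det_toMatrix']; exact hdet⟩, ?_, ?_⟩
  · intro u v
    show Cfsg.hermForm n F q (LinearMap.toMatrix' y *ᵥ u) (LinearMap.toMatrix' y *ᵥ v) = _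
    rw [LinearMap.toMatrix'_mulVec, LinearMap.toMatrix'_mulVec, ← x_std σ hσ, ← x_std σ hσ]
    exact hy v u
  · exact Matrix.toLin'_toMatrix' y

/-- XDET: the determinant of an isometry has norm one -/
theorem x_det_norm (σ : F →+* F) (hσ : ∀ a, σ a = a ^ q) (n : ℕ) (y : Module.End F (Fin n → F))
    (hy : ∀ u v, stdH n σ (y u) (y v) = stdH n σ u v) : (LinearMap.det y) ^ (q + 1) = 1 := by
  have h1 : ∀ u v, Cfsg.hermForm n F q (LinearMap.toMatrix' y *ᵥ u) (LinearMap.toMatrix' y *ᵥ v) =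
      Cfsg.hermForm n F q u v := by
    intro u v
    rw [LinearMap.toMatrix'_mulVec, LinearMap.toMatrix'_mulVec, ← x_std σ hσ, ← x_std σ hσ]
    exact hy v u
  have h2 := (Cfsg.Agent.Lib.Lead.preserves_iff σ hσ (LinearMap.toMatrix' y)).mp h1
  have h3 := congrArg Matrix.det h2
  rw [Matrix.det_mul, Matrix.det_transpose, Matrix.det_one] at h3
  have h4 : ((LinearMap.toMatrix' y).map σ).det = σ (LinearMap.toMatrix' y).det := by
    rw [RingHom.map_det]
    rfl
  rw [h4, LinearMap.det_toMatrix', hσ, ← pow_succ'] at h3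
  exact h3

/-- XDET1: an isometry of order prime to `q + 1` has determinant one -/
theorem x_det_one (σ : F →+* F) (hσ : ∀ a, σ a = a ^ q) (n : ℕ) (y : Module.End F (Fin n → F))
    (hy : ∀ u v, stdH n σ (y u) (y v) = stdH n σ u v) (r : ℕ) (hco : Nat.Coprime r (q + 1))
    (hyr : y ^ r = 1) : LinearMap.det y = 1 := by
  have h1 := x_det_norm σ hσ n y hy
  have h2 : (LinearMap.det y) ^ r = 1 := by
    rw [← map_pow, hyr, map_one]
  have h3 := (pow_gcd_eq_one (a := LinearMap.det y) (m := r) (n := q + 1)).mpr ⟨h2, h1⟩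
  rw [Nat.Coprime.gcd_eq_one hco, pow_one] at h3
  exact h3

/-- XUNIP: a unipotent endomorphism has determinant one -/
theorem x_det_unip (n : ℕ) (y : Module.End F (Fin n → F)) (k : ℕ) (h : (y - 1) ^ k = 0) :
    LinearMap.det y = 1 := by
  set N : Matrix (Fin n) (Fin n) F := LinearMap.toMatrix' (1 - y) with hN
  have hnil : IsNilpotent N := by
    refine ⟨k, ?_⟩
    have hpow : ∀ j : ℕ, (LinearMap.toMatrix' (1 - y)) ^ j = LinearMap.toMatrix' ((1 - y) ^ j) := by
      intro j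
      induction j with
      | zero => rw [pow_zero, pow_zero, LinearMap.toMatrix'_one]
      | succ j ih => rw [pow_succ, pow_succ, LinearMap.toMatrix'_mul, ih]
    have : (1 - y) ^ k = (-1) ^ k * (y - 1) ^ k := by
      have h5 := neg_pow (y - 1) k
      rw [neg_sub] at h5
      exact h5
    rw [hN, hpow, this, h, mul_zero, map_zero]
  have h1 := Matrix.isNilpotent_charpoly_sub_pow_of_isNilpotent hnil
  have h2 : N.charpoly = Polynomial.X ^ Fintype.card (Fin n) := sub_eq_zero.1 h1.eq_zero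
  have h3 := Matrix.eval_charpoly N (1 : F)
  rw [h2, Polynomial.eval_pow, Polynomial.eval_X, one_pow, map_one] at h3
  have h4 : (1 : Matrix (Fin n) (Fin n) F) - N = LinearMap.toMatrix' y := by
    rw [hN, map_sub, LinearMap.toMatrix'_one]
    abel
  rw [h4, LinearMap.det_toMatrix'] at h3
  exact h3.symm

end

end Cfsg.Agent.Lib.Helper19.S5954
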